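import Cfsg.Agent.UFourType.Data.FSteps
import Cfsg.Agent.UFourType.Data.FEdges0
import Cfsg.Agent.UFourType.Data.FEdges1
import Cfsg.Agent.UFourType.Data.FEdges2
import Cfsg.Agent.UFourType.Data.FEdges3
import Cfsg.Agent.UFourType.Data.FEdges4
import Cfsg.Agent.UFourType.Data.FEdges5

set_option autoImplicit false
set_option maxRecDepth 20000

/-! Generated certificate of a coset enumeration for the recognition of `U₄(3)`. -/

namespace CfsgLib.UFourType

open CfsgLib.MTwelveUnique

noncomputable section

theorem f_derived : fT.Derived 6 := by
  intro x hx
  interval_cases x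
  exacts [f_derived0, f_derived1, f_derived2, f_derived3, f_derived4, f_derived5]

end

end CfsgLib.UFourType
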