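import Cfsg.Agent.UFourType.Data.CSteps
import Cfsg.Agent.UFourType.Data.CEdges0
import Cfsg.Agent.UFourType.Data.CEdges1
import Cfsg.Agent.UFourType.Data.CEdges2
import Cfsg.Agent.UFourType.Data.CEdges3
import Cfsg.Agent.UFourType.Data.CEdges4

set_option autoImplicit false
set_option maxRecDepth 20000

/-! Generated certificate of a coset enumeration for the recognition of `U₄(3)`. -/

namespace CfsgLib.UFourType

open CfsgLib.MTwelveUnique

noncomputable section

theorem c_derived : cT.Derived 5 := by
  intro x hx
  interval_cases x
  exacts [c_derived0, c_derived1, c_derived2, c_derived3, c_derived4]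

end

end CfsgLib.UFourType
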