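import Cfsg.Agent.UFourType.Data.CData

set_option autoImplicit false
set_option maxRecDepth 20000

/-! Generated certificate of a coset enumeration for the recognition of `U₄(3)` (steps). -/

namespace CfsgLib.UFourType

open CfsgLib.MTwelveUnique

noncomputable section

theorem c_tree : treeFacts cCert.F cCert.parN cCert.parX cCert.nT = true := by
  decide +kernel

theorem c_steps0 : stepsOK (cRels) [] cCert.F cSteps0 1170 = true := by
  decide +kernel

theorem c_len0 : cSteps0.length = 500 := by decide +kernel

theorem c_steps1 : stepsOK (cRels) [] cCert.F cSteps1 1670 = true := by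
  decide +kernel

theorem c_len1 : cSteps1.length = 500 := by decide +kernel

theorem c_steps2 : stepsOK (cRels) [] cCert.F cSteps2 2170 = true := by
  decide +kernel

theorem c_len2 : cSteps2.length = 500 := by decide +kernel

theorem c_steps3 : stepsOK (cRels) [] cCert.F cSteps3 2670 = true := by
  decide +kernel

theorem c_len3 : cSteps3.length = 500 := by decide +kernel

theorem c_steps4 : stepsOK (cRels) [] cCert.F cSteps4 3170 = true := by
  decide +kernel

theorem c_len4 : cSteps4.length = 500 := by decide +kernel

theorem c_steps5 : stepsOK (cRels) [] cCert.F cSteps5 3670 = true := by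
  decide +kernel

theorem c_len5 : cSteps5.length = 500 := by decide +kernel

theorem c_steps6 : stepsOK (cRels) [] cCert.F cSteps6 4170 = true := by
  decide +kernel

theorem c_len6 : cSteps6.length = 500 := by decide +kernel

theorem c_steps7 : stepsOK (cRels) [] cCert.F cSteps7 4670 = true := by
  decide +kernel

theorem c_len7 : cSteps7.length = 500 := by decide +kernel

theorem c_steps8 : stepsOK (cRels) [] cCert.F cSteps8 5170 = true := by
  decide +kernel

theorem c_len8 : cSteps8.length = 500 := by decide +kernel

theorem c_steps9 : stepsOK (cRels) [] cCert.F cSteps9 5670 = true := by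
  decide +kernel

theorem c_len9 : cSteps9.length = 111 := by decide +kernel

theorem c_ok : cCert.ok (cRels) [] = true := by
  rw [Cert.ok, c_tree, Bool.true_and]
  show stepsOK (cRels) [] cCert.F (List.flatten _) 1170 = true
  simp only [List.flatten_cons, List.flatten_nil, List.append_nil, stepsOK_append,
    c_len0, c_len1, c_len2, c_len3, c_len4, c_len5, c_len6, c_len7, c_len8, c_len9, Nat.reduceAdd,
    c_steps0, c_steps1, c_steps2, c_steps3, c_steps4, c_steps5, c_steps6, c_steps7, c_steps8, c_steps9, Bool.and_self]

end

end CfsgLib.UFourType
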