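import Cfsg.Agent.UFourType.Data.FData

set_option autoImplicit false
set_option maxRecDepth 20000

/-! Generated certificate of a coset enumeration for the recognition of `U₄(3)` (steps). -/

namespace CfsgLib.UFourType

open CfsgLib.MTwelveUnique

noncomputable section

theorem f_tree : treeFacts fCert.F fCert.parN fCert.parX fCert.nT = true := by
  decide +kernel

theorem f_steps0 : stepsOK (allRels) subW fCert.F fSteps0 3319 = true := by
  decide +kernel

theorem f_len0 : fSteps0.length = 500 := by decide +kernel

theorem f_steps1 : stepsOK (allRels) subW fCert.F fSteps1 3819 = true := by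
  decide +kernel

theorem f_len1 : fSteps1.length = 500 := by decide +kernel

theorem f_steps2 : stepsOK (allRels) subW fCert.F fSteps2 4319 = true := by
  decide +kernel

theorem f_len2 : fSteps2.length = 500 := by decide +kernel

theorem f_steps3 : stepsOK (allRels) subW fCert.F fSteps3 4819 = true := by
  decide +kernel

theorem f_len3 : fSteps3.length = 500 := by decide +kernel

theorem f_steps4 : stepsOK (allRels) subW fCert.F fSteps4 5319 = true := by
  decide +kernel

theorem f_len4 : fSteps4.length = 500 := by decide +kernel

theorem f_steps5 : stepsOK (allRels) subW fCert.F fSteps5 5819 = true := by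
  decide +kernel

theorem f_len5 : fSteps5.length = 500 := by decide +kernel

theorem f_steps6 : stepsOK (allRels) subW fCert.F fSteps6 6319 = true := by
  decide +kernel

theorem f_len6 : fSteps6.length = 500 := by decide +kernel

theorem f_steps7 : stepsOK (allRels) subW fCert.F fSteps7 6819 = true := by
  decide +kernel

theorem f_len7 : fSteps7.length = 500 := by decide +kernel

theorem f_steps8 : stepsOK (allRels) subW fCert.F fSteps8 7319 = true := by
  decide +kernel

theorem f_len8 : fSteps8.length = 500 := by decide +kernel

theorem f_steps9 : stepsOK (allRels) subW fCert.F fSteps9 7819 = true := by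
  decide +kernel

theorem f_len9 : fSteps9.length = 500 := by decide +kernel

theorem f_steps10 : stepsOK (allRels) subW fCert.F fSteps10 8319 = true := by
  decide +kernel

theorem f_len10 : fSteps10.length = 500 := by decide +kernel

theorem f_steps11 : stepsOK (allRels) subW fCert.F fSteps11 8819 = true := by
  decide +kernel

theorem f_len11 : fSteps11.length = 500 := by decide +kernel

theorem f_steps12 : stepsOK (allRels) subW fCert.F fSteps12 9319 = true := by
  decide +kernel

theorem f_len12 : fSteps12.length = 500 := by decide +kernel

theorem f_steps13 : stepsOK (allRels) subW fCert.F fSteps13 9819 = true := by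
  decide +kernel

theorem f_len13 : fSteps13.length = 500 := by decide +kernel

theorem f_steps14 : stepsOK (allRels) subW fCert.F fSteps14 10319 = true := by
  decide +kernel

theorem f_len14 : fSteps14.length = 500 := by decide +kernel

theorem f_steps15 : stepsOK (allRels) subW fCert.F fSteps15 10819 = true := by
  decide +kernel

theorem f_len15 : fSteps15.length = 500 := by decide +kernel

theorem f_steps16 : stepsOK (allRels) subW fCert.F fSteps16 11319 = true := by
  decide +kernel

theorem f_len16 : fSteps16.length = 500 := by decide +kernel

theorem f_steps17 : stepsOK (allRels) subW fCert.F fSteps17 11819 = true := by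
  decide +kernel

theorem f_len17 : fSteps17.length = 500 := by decide +kernel

theorem f_steps18 : stepsOK (allRels) subW fCert.F fSteps18 12319 = true := by
  decide +kernel

theorem f_len18 : fSteps18.length = 500 := by decide +kernel

theorem f_steps19 : stepsOK (allRels) subW fCert.F fSteps19 12819 = true := by
  decide +kernel

theorem f_len19 : fSteps19.length = 500 := by decide +kernel

theorem f_steps20 : stepsOK (allRels) subW fCert.F fSteps20 13319 = true := by
  decide +kernel

theorem f_len20 : fSteps20.length = 500 := by decide +kernel

theorem f_steps21 : stepsOK (allRels) subW fCert.F fSteps21 13819 = true := by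
  decide +kernel

theorem f_len21 : fSteps21.length = 500 := by decide +kernel

theorem f_steps22 : stepsOK (allRels) subW fCert.F fSteps22 14319 = true := by
  decide +kernel

theorem f_len22 : fSteps22.length = 500 := by decide +kernel

theorem f_steps23 : stepsOK (allRels) subW fCert.F fSteps23 14819 = true := by
  decide +kernel

theorem f_len23 : fSteps23.length = 500 := by decide +kernel

theorem f_steps24 : stepsOK (allRels) subW fCert.F fSteps24 15319 = true := by
  decide +kernel

theorem f_len24 : fSteps24.length = 500 := by decide +kernel

theorem f_steps25 : stepsOK (allRels) subW fCert.F fSteps25 15819 = true := by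
  decide +kernel

theorem f_len25 : fSteps25.length = 500 := by decide +kernel

theorem f_steps26 : stepsOK (allRels) subW fCert.F fSteps26 16319 = true := by
  decide +kernel

theorem f_len26 : fSteps26.length = 500 := by decide +kernel

theorem f_steps27 : stepsOK (allRels) subW fCert.F fSteps27 16819 = true := by
  decide +kernel

theorem f_len27 : fSteps27.length = 500 := by decide +kernel

theorem f_steps28 : stepsOK (allRels) subW fCert.F fSteps28 17319 = true := by
  decide +kernel

theorem f_len28 : fSteps28.length = 500 := by decide +kernel

theorem f_steps29 : stepsOK (allRels) subW fCert.F fSteps29 17819 = true := by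
  decide +kernel

theorem f_len29 : fSteps29.length = 500 := by decide +kernel

theorem f_steps30 : stepsOK (allRels) subW fCert.F fSteps30 18319 = true := by
  decide +kernel

theorem f_len30 : fSteps30.length = 121 := by decide +kernel

theorem f_ok : fCert.ok (allRels) subW = true := by
  rw [Cert.ok, f_tree, Bool.true_and]
  show stepsOK (allRels) subW fCert.F (List.flatten _) 3319 = true
  simp only [List.flatten_cons, List.flatten_nil, List.append_nil, stepsOK_append,
    f_len0, f_len1, f_len2, f_len3, f_len4, f_len5, f_len6, f_len7, f_len8, f_len9, f_len10, f_len11, f_len12, f_len13, f_len14, f_len15, f_len16, f_len17, f_len18, f_len19, f_len20, f_len21, f_len22, f_len23, f_len24, f_len25, f_len26, f_len27, f_len28, f_len29, f_len30, Nat.reduceAdd,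
    f_steps0, f_steps1, f_steps2, f_steps3, f_steps4, f_steps5, f_steps6, f_steps7, f_steps8, f_steps9, f_steps10, f_steps11, f_steps12, f_steps13, f_steps14, f_steps15, f_steps16, f_steps17, f_steps18, f_steps19, f_steps20, f_steps21, f_steps22, f_steps23, f_steps24, f_steps25, f_steps26, f_steps27, f_steps28, f_steps29, f_steps30, Bool.and_self]

end

end CfsgLib.UFourType
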